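import Groth.Agent.CurveCohLib.GlobGen

/-! Invertible modules of degree at least two on a genus one curve are globally generated. -/

noncomputable section

set_option linter.style.haveILetI false
set_option linter.unusedSectionVars false
set_option backward.isDefEq.respectTransparency false
set_option backward.isDefEq.respectTransparency.types false

universe u

open CategoryTheory CategoryTheory.Limits AlgebraicGeometry TopologicalSpace Opposite MonoidalCategory
open Groth.Agent.PnCoh.Finite (mapLin)

namespace Groth.Agent.GenusOneGG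

open Groth.Agent.CurveBundle Groth.Agent.CurveSlope Groth.Agent.CurveCohLib

variable {X : Scheme.{u}} (k : Type u) [Field k] [X.Over (Spec (CommRingCat.of k))]
  [IsIntegral X] [IsProper (X ↘ Spec (CommRingCat.of k))]

/-- A submodule of full rank has no larger Euler characteristic, with equality only for isomorphisms. -/
theorem euler_le_and_isIso (hdim : topologicalKrullDim X = 1) {A F : X.Modules} (hA : Coh.IsCoh A)
    (hF : Coh.IsCoh F) (φ : A ⟶ F) [Mono φ] (hrk : rk (cokernel φ) = 0) :
    Curv2.euler k X A ≤ Curv2.euler k X F ∧ (Curv2.euler k X A = Curv2.euler k X F → IsIso φ) := by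
  haveI := CurveCohLib.isNoetherian_of_proper (k := k) (X := X)
  have hTc : Coh.IsCoh (cokernel φ) := QCoh.isCoh_cokernel hA.1 hF φ
  have hTcl : ∀ x ∈ CohB1.support (cokernel φ), IsClosed ({x} : Set X) := fun x hx => by
    by_contra hxc
    obtain rfl := CurveCohLib.eq_genericPoint_of_not_isClosed hdim hxc
    letI := (isField_stalk_generic (X := X)).toField
    haveI := finite_stalk_of_coh hTc (genericPoint X)
    exact hx (Module.finrank_zero_iff.1 hrk)
  have hadd := euler_add' k _ _ _ (shortExact_cokernel_of_mono φ) hA hF hTc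
  have hT := CurveCohLib.euler_eq_finrank_zero (k := k) hTc hTcl
  change Curv2.euler k X F = Curv2.euler k X A + Curv2.euler k X (cokernel φ) at hadd
  refine ⟨by omega, fun h => ?_⟩
  haveI : Epi φ := Preadditive.epi_of_isZero_cokernel φ
    (CurveCohLib.isZero_of_euler_eq_zero (k := k) hTc hTcl (by omega))
  exact isIso_of_mono_of_epi φ

variable (hdim : topologicalKrullDim X = 1) (hg : Curv2.genus k X = 1) {L : X.Modules}
  (hL : PicF.IsInvertible L) (hdeg : 2 ≤ Curv2.deg k X L 1)

include hdim hg hL hdeg in
/-- An invertible module of degree at least two on a genus one curve is globally generated. -/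
theorem isGloballyGenerated : Curv2.IsGloballyGenerated L := by
  haveI := CurveCohLib.isNoetherian_of_proper (k := k) (X := X)
  have hLc := CurveDeg.isCoh_of_isInvertible hL
  have hχO := CurveRR.euler_eq_h0_sub_h1 k hdim.le (QCoh.isQCoh_structureModule (X := X))
  have hh1O : Module.finrank k (Coh.HH X (Coh.structureModule X) 1) = 1 := hg
  rw [hh1O] at hχO
  haveI := CurveCohLib.finite_HH (k := k) (QCoh.isCoh_structureModule' (X := X)) 0
  haveI : Nontrivial (Coh.HH X (Coh.structureModule X) 0) :=
    haveI : Nontrivial ↑Γ(X, ⊤) := inferInstance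
    haveI : Nontrivial ↑((Coh.toAb (Coh.structureModule X)).obj.obj (op ⊤)) := this
    (Sheaf.H.equiv₀ (Coh.toAb (Coh.structureModule X)) isTerminalTop).toEquiv.nontrivial
  have hpos := Module.finrank_pos (R := k) (M := Coh.HH X (Coh.structureModule X) 0)
  have hχL := CurveRR.euler_eq_h0_sub_h1 k hdim.le hLc.1
  have hdeg' := hdeg
  unfold Curv2.deg at hdeg'
  push_cast at hdeg'
  obtain ⟨s, hs⟩ := CurveRR.exists_hom_ne_zero (P := L) k (by omega)
  refine CurveCohLib.GlobGen.isGloballyGenerated k hdim hL ⟨s, hs⟩ fun x hx => ?_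
  by_contra hcon
  push Not at hcon
  set Z := Scheme.IdealSheafData.vanishingIdeal (X := X) ⟨{x}, hx⟩ with hZdef
  have hsupp : (Z.support : Set X) = {x} := by
    rw [hZdef]
    simp [Scheme.IdealSheafData.coe_support_vanishingIdeal, hx.closure_eq]
  have hZ : topologicalKrullDim (Z.support : Set X) ≤ 0 := by
    rw [hsupp]
    exact topologicalKrullDim_zero_of_discreteTopology _
  have hLf : FlatMod.IsFinLocFree L := fun y =>
    let ⟨W, hy, he⟩ := InvEnd.isFinLocFreeOfRank_one hL y; ⟨W, 1, hy, he⟩
  have hS := CurveTensor.shortExact_tensor hLf _ _ _ (Nonspecial.ideal_shortExact Z)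
  have hF := Nonspecial.isCoh_twist k Z hL
  have e1 := CurveCohLib.ker_mapLin_g k hS 0
  have e2 := CurveCohLib.mapLin_f_zero_injective k hS
  have e3 : LinearMap.range (mapLin k ((DCoh.tensorBi.obj L).map (ClSub.idealModι Z)) 0) = ⊤ :=
    eq_top_iff.2 fun t _ => e1.le (LinearMap.mem_ker.2 (hcon t))
  have e4 := LinearMap.finrank_range_of_inj e2
  change Module.finrank k (LinearMap.range (mapLin k ((DCoh.tensorBi.obj L).map (ClSub.idealModι Z)) 0)) = _ at e4
  rw [e3, finrank_top, (CurveCohLib.hhEquiv (k := k) (KFlatLib.tensorUnitIso L) 0).finrank_eq] at e4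
  change Module.finrank k (Coh.HH X L 0) = Module.finrank k (Coh.HH X (Nonspecial.twist Z L) 0) at e4
  haveI := CurveCohLib.finite_HH (k := k) hF 0
  obtain ⟨t, ht⟩ : ∃ t : Coh.HH X (Nonspecial.twist Z L) 0, t ≠ 0 := by
    haveI : Nontrivial (Coh.HH X (Nonspecial.twist Z L) 0) :=
      Module.nontrivial_of_finrank_pos (R := k) (by omega)
    exact exists_ne 0
  obtain ⟨hm, hr⟩ := Nonspecial.section_twist k Z hL _ (CurveSpecial.homOfClass_ne_zero ht)
  haveI := hm
  obtain ⟨hle, hiso⟩ := euler_le_and_isIso k hdim QCoh.isCoh_structureModule' hF _ hr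
  have hχF := Nonspecial.euler_twist k Z hL hdim hZ
  by_cases hq : Curv2.euler k X (Coh.structureModule X) = Curv2.euler k X (Nonspecial.twist Z L)
  · haveI := hiso hq
    have he := (CurveCohLib.hhEquiv (k := k) (asIso (CurveSpecial.homOfClass t)) 0).finrank_eq
    omega
  · haveI h1 := Nonspecial.h1_of_euler k hdim hF (Nonspecial.section_twist k Z hL) (by omega)
    -- no cohomology in degree one forces a section not vanishing at the point
    have hQc : Coh.IsCoh ((DCoh.tensorBi.obj L).obj (ClSub.quotMod Z)) :=
      CurveTensor.isCoh_tensor hLf (ParShLib.isCoh_quotMod Z)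
    haveI : Subsingleton (Coh.HH X ((DCoh.tensorBi.obj L).obj (ClSub.quotMod Z)) 0) := by
      refine subsingleton_of_forall_eq 0 fun q => ?_
      obtain ⟨v, hv⟩ := (CurveCohLib.ker_deltaLin k hS 0).le (LinearMap.mem_ker.2 (Subsingleton.elim _ 0))
      exact hv.symm.trans (hcon v)
    have hQcl : ∀ y ∈ CohB1.support ((DCoh.tensorBi.obj L).obj (ClSub.quotMod Z)), IsClosed ({y} : Set X) :=
      fun y hy => by
        have hy' : y ∈ (Z.support : Set X) :=
          not_not.1 fun h => (CurveTensor.support_tensor_subset hy) (ParShLib.subsingleton_stalk_quotMod Z h)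
        rw [hsupp] at hy'
        rwa [Set.mem_singleton_iff.1 hy']
    have hQ0 := CurveTensor.euler_tensor_torsion k (InvEnd.isFinLocFreeOfRank_one hL) (ParShLib.isCoh_quotMod Z)
      (fun y hy => by
        have hy' : y ∈ (Z.support : Set X) := not_not.1 fun h => hy (ParShLib.subsingleton_stalk_quotMod Z h)
        rw [hsupp] at hy'
        rwa [Set.mem_singleton_iff.1 hy'])
    rw [CurveCohLib.euler_eq_finrank_zero (k := k) hQc hQcl, Module.finrank_zero_of_subsingleton] at hQ0
    have hz := CurveCohLib.isZero_of_euler_eq_zero (k := k) (ParShLib.isCoh_quotMod Z)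
      (fun y hy => by
        have hy' : y ∈ (Z.support : Set X) := not_not.1 fun h => hy (ParShLib.subsingleton_stalk_quotMod Z h)
        rw [hsupp] at hy'
        rwa [Set.mem_singleton_iff.1 hy']) (by rw [Nat.cast_zero, Nat.cast_one, one_mul] at hQ0; exact hQ0.symm)
    refine CurveCohLib.GlobGen.nontrivial_stalk_quotMod Z (x := x)
      (show x ∈ (Z.support : Set X) by rw [hsupp]; rfl) ?_
    exact ModuleCat.subsingleton_of_isZero ((DerSch.stalkFunctor X x).map_isZero hz)

end Groth.Agent.GenusOneGG
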